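import Cfsg.Agent.On3.BaseB

/-! Local structure, III: tools and frames. -/

set_option autoImplicit false
set_option linter.unusedSectionVars false
set_option linter.unusedVariables false

namespace Cfsg.Agent.On3

open Subgroup Cfsg Cfsg.Agent.PLocal Cfsg.Agent.PLocal.Amb
open scoped commutatorElement

variable {G : Type*} [Group G] [Finite G]

theorem card_le_two_mul {K L : Subgroup G} {v : G} (h : ∀ l ∈ L, l ∈ K ∨ l * v⁻¹ ∈ K) :
    Nat.card L ≤ 2 * Nat.card ↥(K ⊓ L) := by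
  by_cases k : L ≤ K
  · rw [inf_eq_right.2 k]; omega
  obtain ⟨t, ht, hK⟩ := SetLike.not_le_iff_exists.1 k
  have h2 : K.relIndex L = 2 := by
    refine relIndex_eq_two_iff.2 ⟨t⁻¹, inv_mem ht, fun b hb => ?_⟩
    have e : b * t⁻¹ = b * v⁻¹ * (t * v⁻¹)⁻¹ := by group
    rcases h b hb with k | k
    · exact Or.inr ⟨k, fun k' => hK (inv_mem_iff.1 ((mul_mem_cancel_left k).1 k'))⟩
    · have k1 : b * t⁻¹ ∈ K := e ▸ mul_mem k (inv_mem ((h t ht).resolve_left hK))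
      exact Or.inl ⟨k1, fun k' => hK (inv_mem_iff.1 ((mul_mem_cancel_left k').1 k1))⟩
  rw [← Grp.card_inf_mul_relIndex' K L, h2, mul_comm]

namespace Sy

variable {P : Subgroup G} (h : Sy P) {x y z s : G}
include h

/-- a `P`-invariant `2`-group properly containing `K` in which only `V x` is new normalizes `K` -/
theorem le_norm_of {K L : Subgroup G} (hK : P ≤ 𝐍[K]) (hL : P ≤ 𝐍[L]) (h2 : IsPGroup 2 L)
    (hKL : K ≤ L) (hx : x ∈ P) (h1 : x ≠ 1)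
    (hu : ∀ y ∈ P, y ≠ 1 → V y ≠ ⊥ → V y ≤ L → V y ≤ K ∨ V y = V x) : L ≤ 𝐍[K] := by
  have : Fact (Nat.Prime 2) := ⟨Nat.prime_two⟩
  rcases hKL.eq_or_lt with e | e
  · exact e ▸ le_normalizer
  have k1 : V x ≤ 𝐍[K] := by
    by_contra k
    refine (lt_inf_normalizer h2 e).not_ge (h.gen (le_normalizer_inf hL (le_normalizer_normalizer hK))
      (h2.to_le inf_le_left) fun y hy y1 h0 k' => ?_)
    exact (hu y hy y1 h0 (k'.trans inf_le_left)).resolve_right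
      fun e => k (e ▸ k'.trans inf_le_right)
  exact h.gen hL h2 fun y hy y1 h0 k' =>
    (hu y hy y1 h0 k').elim (fun e => e.trans le_normalizer) fun e => e ▸ k1

/-- independence: `z` stays fixed-point-free -/
theorem fpf_sup (hx : x ∈ P) (hz : z ∈ P) (h1 : x ≠ 1) (hn : z ∉ zpowers x) {K : Subgroup G}
    (hK : z ∈ 𝐍[K]) (hV : V x ≤ 𝐍[K]) (hi : V x ⊓ K = ⊥) (hf : ∀ k ∈ K, Commute k z → k = 1) :
    ∀ k ∈ K ⊔ V x, Commute k z → k = 1 := fun l hl hc => by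
  obtain ⟨k, hk, u, hu, rfl⟩ := (mem_sup_of_le_normalizer_left hV).1 hl
  have e : u * (z * u⁻¹ * z⁻¹) = k⁻¹ * (z * k * z⁻¹) := by
    calc u * (z * u⁻¹ * z⁻¹) = k⁻¹ * (k * u * z) * u⁻¹ * z⁻¹ := by group
      _ = _ := by rw [hc.eq]; group
  have e1 : u * (z * u⁻¹ * z⁻¹) = 1 := (eq_bot_iff_forall _).1 hi _
    ⟨mul_mem hu (conj_mem_of_mem_normalizer (h.le_nV hx h1 hz) (inv_mem hu)),
      by rw [e]; exact K.mul_mem (K.inv_mem hk) (conj_mem_of_mem_normalizer hK hk)⟩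
  have e2 : u = 1 := h.fpf hx hz h1 hn hu (commutatorElement_eq_one_iff_commute.1 (by
    rw [← e1, commutatorElement_def]; group))
  rw [e2, mul_one] at hc ⊢
  exact hf k hk hc

theorem card_sup (hx : x ∈ P) (h1 : x ≠ 1) (h0 : V x ≠ ⊥) {K : Subgroup G} (hV : V x ≤ 𝐍[K])
    (hi : V x ⊓ K = ⊥) : Nat.card ↥(K ⊔ V x) = 4 * Nat.card K := by
  have := Grp.card_sup_mul_card_inf_of_le_normalizer hV
  rwa [hi, card_bot, mul_one, h.card_V hx h1 h0, sup_comm] at this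

theorem comm_of_mem (hs : Inv P s) (hx : x ∈ P) (h1 : x ≠ 1) {K : Subgroup G} (hi : V x ⊓ K = ⊥)
    {u : G} (hu : u ∈ V x) (hK : u * (s * u * s⁻¹) ∈ K) : Commute s u := by
  have e : u * (s * u * s⁻¹) = 1 := (eq_bot_iff_forall _).1 hi _
    ⟨mul_mem hu (conj_mem_of_mem_normalizer (h.inv_nV hs hx) hu), hK⟩
  rwa [← h.sq hx h1 hu, mul_right_inj, mul_inv_eq_iff_eq_mul] at e

/-- one step of "involutions of `L s` are conjugate to `s`" -/
theorem step (hs : Inv P s) (s2 : s * s = 1) (hx : x ∈ P) (h1 : x ≠ 1) {K : Subgroup G}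
    (hV : V x ≤ 𝐍[K]) (hK : s ∈ 𝐍[K]) (hi : V x ⊓ K = ⊥) {l : G} (hl : l ∈ K ⊔ V x)
    (h2 : l * s * (l * s) ∈ K) : ∃ u ∈ V x, ∃ k ∈ K, u * (l * s) * u⁻¹ = k * s := by
  obtain ⟨k, hk, u, hu, rfl⟩ := (mem_sup_of_le_normalizer_left hV).1 hl
  by_cases u1 : u = 1
  · exact ⟨1, one_mem _, k, hk, by simp [u1]⟩
  obtain ⟨v, hv, -, -, k1, u0, hu0, e⟩ := h.exists_v hs hx h1 fun e => u1 (mem_bot.1 (e ▸ hu))
  have k2 : u * (s * u * s⁻¹) ∈ K := by
    have e : k * u * s * (k * u * s) =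
        k * (u * (s * k * s⁻¹) * u⁻¹) * (u * (s * u * s⁻¹)) * (s * s) := by group
    rwa [e, s2, mul_one, mul_mem_cancel_left (mul_mem hk
      (conj_mem_of_mem_normalizer (hV hu) (conj_mem_of_mem_normalizer hK hk)))] at h2
  have k3 := (k1 u hu (h.comm_of_mem hs hx h1 hi hu k2)).resolve_left u1
  refine ⟨u0, hu0, _, conj_mem_of_mem_normalizer (hV hu0) hk, ?_⟩
  rw [k3, ← e]
  calc u0 * (k * (u0 * (s * u0 * s⁻¹)) * s) * u0⁻¹ = u0 * k * u0⁻¹ * (u0 * u0) * s := by group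
    _ = _ := by rw [h.sq hx h1 hu0, mul_one]

/-- one step of "`|C(l s)|` is at most the square root"; `l` acts trivially on `K (V x) / K` -/
theorem fix_step (hs : Inv P s) (hx : x ∈ P) (h1 : x ≠ 1) {K : Subgroup G}
    (hV : V x ≤ 𝐍[K]) (hK : s ∈ 𝐍[K]) (hi : V x ⊓ K = ⊥) {l : G} (hl : l ∈ 𝐍[K])
    (hc : ∀ u ∈ V x, ⁅l, u⁆ ∈ K) :
    Nat.card ↥((K ⊔ V x) ⊓ centralizer {l * s}) ≤ 2 * Nat.card ↥(K ⊓ centralizer {l * s}) := by
  by_cases h0 : V x = ⊥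
  · rw [h0, sup_bot_eq]; omega
  obtain ⟨v, hv, -, -, k1, -⟩ := h.exists_v hs hx h1 h0
  have := card_le_two_mul (K := K) (L := (K ⊔ V x) ⊓ centralizer {l * s}) (v := v) fun m hm => by
    obtain ⟨k, hk, u, hu, rfl⟩ := (mem_sup_of_le_normalizer_left hV).1 hm.1
    have hu' := conj_mem_of_mem_normalizer (h.inv_nV hs hx) hu
    have e0 : k * u * (l * s) = l * s * (k * u) := mem_centralizer_singleton_iff.1 hm.2
    have e : u * (s * u * s⁻¹)⁻¹ = k⁻¹ * (l * s * k * (l * s)⁻¹) * ⁅l, s * u * s⁻¹⁆ := by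
      calc u * (s * u * s⁻¹)⁻¹ = k⁻¹ * (k * u * (l * s)) * (l * s)⁻¹ * (s * u * s⁻¹)⁻¹ := by group
        _ = _ := by rw [e0, commutatorElement_def]; group
    rw [inv_eq_of_mul_eq_one_right (h.sq hx h1 hu')] at e
    rcases k1 u hu (h.comm_of_mem hs hx h1 hi hu (e ▸ mul_mem (mul_mem (inv_mem hk)
      (conj_mem_of_mem_normalizer (mul_mem hl hK) hk)) (hc _ hu'))) with rfl | rfl
    · exact Or.inl (by simpa using hk)
    · exact Or.inr (by simpa using hk)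
  rwa [← inf_assoc, inf_eq_left.2 (le_sup_left : K ≤ K ⊔ V x)] at this

/-- elements of order `3` of a quotient by a `2`-group are conjugate to images of elements of `P` -/
theorem quot_three {H K : Subgroup G} (hP : P ≤ H) (h2 : IsPGroup 2 K)
    {X : Type*} [Group X] (π : H →* X) (hπ : Function.Surjective π)
    (hk : ∀ g : H, π g = 1 → (g : G) ∈ K) {x : X} (hx : orderOf x = 3) :
    ∃ m y : H, (y : G) ∈ P ∧ (y : G) ≠ 1 ∧ x = π m * π y * (π m)⁻¹ := by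
  have : Fact (Nat.Prime 3) := ⟨Nat.prime_three⟩
  obtain ⟨x, rfl⟩ := hπ x
  have x3 : π x ^ 3 = 1 := by rw [← hx, pow_orderOf_eq_one]
  obtain ⟨n, hn⟩ := isPGroup_iff.1 h2 _ (hk (x ^ 3) (by rw [map_pow, x3]))
  have e1 : ((x ^ 4 ^ n : H) : G) ^ 3 ^ 1 = 1 := by
    rw [pow_one, coe_pow, ← pow_mul, show 4 ^ n * 3 = 3 * 2 ^ n * 2 ^ n by
      rw [show 4 = 2 * 2 from rfl, mul_pow]; ring, pow_mul, pow_mul, ← coe_pow, hn, one_pow]
  have e2 : π (x ^ 4 ^ n) = π x := by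
    rw [map_pow, ← pow_mod_orderOf, hx, Nat.pow_mod]; simp
  obtain ⟨m, hm, k⟩ := (h.syl.mono hP le_top).exists_cj_le (isPGroup_zpowers ⟨1, e1⟩)
    (zpowers_le.2 (x ^ 4 ^ n).2)
  have k1 := k (conj_mem_cj m (mem_zpowers _))
  refine ⟨⟨m, hm⟩⁻¹, ⟨m, hm⟩ * x ^ 4 ^ n * ⟨m, hm⟩⁻¹, k1, fun e => ?_, ?_⟩
  · rw [← e2, show x ^ 4 ^ n = 1 from Subtype.ext (by simpa using e), map_one, orderOf_one] at hx
    omega
  · simp only [map_mul, map_inv, e2]; group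

theorem quot_cent {H K : Subgroup G} (hP : P ≤ H) (h2 : IsPGroup 2 K)
    (hV : ∀ x ∈ P, x ≠ 1 → V x ⊓ H ≤ K) {X : Type*} [Group X] (π : H →* X)
    (hk : ∀ g : H, π g = 1 ↔ (g : G) ∈ K) {y c : H} (hy : (y : G) ∈ P) (y1 : (y : G) ≠ 1)
    (hc : Commute (π c) (π y)) : ∃ p : H, (p : G) ∈ P ∧ π p = π c := by
  have two : IsPGroup 2 π.ker := isPGroup_iff.2 fun g hg =>
    (isPGroup_iff.1 h2 _ ((hk g).1 hg)).imp fun n hn => Subtype.ext hn
  obtain ⟨n, hn, k⟩ := Solv.coprime_fixed_coset' (zpowers y) π.ker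
    (le_top.trans (normalizer_eq_top _).ge) (by
      rw [Nat.card_zpowers, ← orderOf_coe, h.ord hy y1]
      exact (Nat.Prime.coprime_iff_not_dvd Nat.prime_three).2 (not_three two))
    (Or.inl (Solv.isSolvable_of_isMulCommutative _)) c fun a ha => by
      obtain ⟨i, rfl⟩ := mem_zpowers_iff.1 ha
      rw [MonoidHom.mem_ker]
      simp only [map_mul, map_inv, map_zpow]
      rw [← (hc.zpow_right i).eq]; group
  obtain ⟨v, hv, p, hp, e⟩ := h.cent_dec hy y1 (c := (c * n : H))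
    (congrArg Subtype.val (mem_centralizer_iff.1 k y (mem_zpowers y))).symm
  have hvH : v ∈ H := (mul_mem_cancel_right (hP hp)).1 (e ▸ (c * n).2)
  refine ⟨⟨p, hP hp⟩, hp, ?_⟩
  have e2 : c * n = ⟨v, hvH⟩ * ⟨p, hP hp⟩ := Subtype.ext e
  have e3 := congrArg π e2
  rwa [map_mul, map_mul, MonoidHom.mem_ker.1 hn, (hk ⟨v, hvH⟩).2 (hV y hy y1 ⟨hv, hvH⟩), mul_one,
    one_mul, eq_comm] at e3

/-- the quotient of a `2`-local subgroup by a `2`-group containing all its `V x` -/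
theorem quot_cc {H K : Subgroup G} (hP : P ≤ H) (h2 : IsPGroup 2 K) (hV : ∀ x ∈ P, x ≠ 1 → V x ⊓ H ≤ K)
    {X : Type*} [Group X] (π : H →* X) (hπ : Function.Surjective π)
    (hk : ∀ g : H, π g = 1 ↔ (g : G) ∈ K) : CC X := by
  have : Fact (Nat.Prime 3) := ⟨Nat.prime_three⟩
  have hc : ∀ y : H, (y : G) ∈ P → (y : G) ≠ 1 →
      centralizer {π y} = (P.subgroupOf H).map π := fun y hy y1 => by
    refine le_antisymm (fun c hc => ?_) ?_
    · obtain ⟨c, rfl⟩ := hπ c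
      exact h.quot_cent hP h2 hV π hk hy y1 (mem_centralizer_singleton_iff.1 hc)
    · rintro _ ⟨p, hp, rfl⟩
      rw [mem_centralizer_singleton_iff, ← map_mul, ← map_mul]
      exact congrArg π (Subtype.ext (h.comm hp hy))
  refine ⟨?_, fun x hx => ?_, fun x c hx k => ?_⟩
  · obtain ⟨x, hx, x1⟩ := h.exists_ne_one
    refine ⟨π ⟨x, hP hx⟩, orderOf_eq_prime ?_ fun e => x1 (h.not_mem_two h2 hx ((hk _).1 e))⟩
    rw [← map_pow, show (⟨x, hP hx⟩ : H) ^ 3 = 1 from Subtype.ext (h.cube x hx), map_one]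
  · obtain ⟨m, y, hy, y1, rfl⟩ := h.quot_three hP h2 π hπ (fun g => (hk g).1) hx
    have := Grp.card_map_mul_card_ker_inf π (P.subgroupOf H)
    rw [(eq_bot_iff_forall (π.ker ⊓ P.subgroupOf H)).2 fun g hg =>
      Subtype.ext (h.not_mem_two h2 hg.2 ((hk g).1 hg.1)), card_bot, mul_one,
      Grp.card_subgroupOf_of_le hP, h.card] at this
    rw [centralizer_singleton_conj, card_cj, hc y hy y1, this]
  · obtain ⟨m, y, hy, y1, rfl⟩ := h.quot_three hP h2 π hπ (fun g => (hk g).1) hx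
    have k1 := mem_centralizer_singleton_iff.2 k
    rw [centralizer_singleton_conj, hc y hy y1] at k1
    obtain ⟨_, ⟨p, hp, rfl⟩, rfl⟩ := k1
    rw [← map_pow, ← map_pow, show p ^ 3 = 1 from Subtype.ext (h.cube _ hp), map_one, map_one]

theorem cover (hx : x ∈ P) (hy : y ∈ P) (h1 : x ≠ 1) (hn : y ∉ zpowers x) (hz : z ∈ P) :
    z ∈ zpowers x ∨ z ∈ zpowers y ∨ z ∈ zpowers (x * y) ∨ z ∈ zpowers (x * y⁻¹) := by
  have c := h.comm hx hy
  rw [← h.gen_P hx hy h1 hn] at hz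
  obtain ⟨a, ha, b, hb, rfl⟩ := (mem_sup_of_le_normalizer_left ((zpowers_le.2 (by
    rw [centralizer_zpowers]; exact mem_centralizer_singleton_iff.2 c.symm)).trans
      (centralizer_le_normalizer' _))).1 hz
  rcases h.eq_or hx ha with e | e | e
  · exact Or.inr (Or.inl (by rwa [e, one_mul]))
  all_goals rcases h.eq_or hy hb with e' | e' | e'
  all_goals first
    | exact Or.inl (by rwa [e', mul_one])
    | rw [e, e']
  · exact Or.inr (Or.inr (Or.inl (mem_zpowers _)))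
  · exact Or.inr (Or.inr (Or.inr (mem_zpowers _)))
  · refine Or.inr (Or.inr (Or.inr (inv_mem_iff.1 ?_)))
    rw [mul_inv_rev, inv_inv, ← c.inv_right.eq]; exact mem_zpowers _
  · refine Or.inr (Or.inr (Or.inl (inv_mem_iff.1 ?_)))
    rw [mul_inv_rev, inv_inv, inv_inv, ← c.eq]; exact mem_zpowers _

/-- a frame from an element of `N(P)` acting neither trivially nor by inversion -/
theorem exists_fr (hx : x ∈ P) (h1 : x ≠ 1) {n : G} (hn : n ∈ 𝐍[P]) (h2 : Inv P (n * n)) :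
    ∃ b c d g : G, g ∈ zpowers n ∧ b = g * x * g⁻¹ ∧ Fr P x b c d g := by
  have hb := conj_mem_of_mem_normalizer hn hx
  have e : n * (n * x * n⁻¹) * n⁻¹ = x⁻¹ := by rw [← h2 x hx]; group
  have ab : n * x * n⁻¹ ∉ zpowers x := fun k => (h.mem_or_inv hx h1 hn k).elim
    (fun k => h.inv_not_mem h2 (mul_mem k k)) fun k => h.inv_not_mem h2 (h.inv_mul k k)
  refine ⟨_, x * (n * x * n⁻¹), x * (n * x * n⁻¹)⁻¹, n, mem_zpowers n, rfl, ?_⟩
  have ga := (V_conj n x).symm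
  have gb := (V_conj n (n * x * n⁻¹)).symm
  have gc := (V_conj n (x * (n * x * n⁻¹))).symm
  have gd := (V_conj n (x * (n * x * n⁻¹)⁻¹)).symm
  rw [e, V_inv] at gb
  rw [show n * (x * (n * x * n⁻¹)) * n⁻¹ = n * x * n⁻¹ * (n * (n * x * n⁻¹) * n⁻¹) by group, e,
    ← V_inv (_ * x⁻¹), mul_inv_rev, inv_inv] at gc
  rw [show n * (x * (n * x * n⁻¹)⁻¹) * n⁻¹ = n * x * n⁻¹ * (n * (n * x * n⁻¹) * n⁻¹)⁻¹ by group, e,
    inv_inv, (h.comm hb hx).eq] at gd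
  generalize n * x * n⁻¹ = b at hb ab ga gb gc gd
  have hc := mul_mem hx hb
  have hd := mul_mem hx (inv_mem hb)
  have b1 : b ≠ 1 := fun e => ab (e ▸ one_mem _)
  have ba := h.not_mem_symm hx hb h1 ab
  have ac : x * b ∉ zpowers x := fun k => ab ((mul_mem_cancel_left (mem_zpowers x)).1 k)
  have ad : x * b⁻¹ ∉ zpowers x := fun k =>
    ab (inv_mem_iff.1 ((mul_mem_cancel_left (mem_zpowers x)).1 k))
  have bc : x * b ∉ zpowers b := fun k => ba ((mul_mem_cancel_right (mem_zpowers b)).1 k)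
  have bd : x * b⁻¹ ∉ zpowers b := fun k => ba ((mul_mem_cancel_right (inv_mem (mem_zpowers b))).1 k)
  have ca := h.not_mem_symm hx hc h1 ac
  have cd : x * b⁻¹ ∉ zpowers (x * b) := fun k => ca (by
    have := mul_mem (mem_zpowers (x * b)) k
    rwa [mul_assoc, ← mul_assoc b, ← (h.comm hx hb).eq, mul_inv_cancel_right,
      ← inv_eq_sq (h.cube x hx), inv_mem_iff] at this)
  exact ⟨h, hx, hb, hc, hd, ab, ac, ad, ba, bc, bd, ca, h.not_mem_symm hb hc b1 bc, cd,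
    h.not_mem_symm hx hd h1 ad, h.not_mem_symm hb hd b1 bd,
    h.not_mem_symm hc hd (fun e => ac (e ▸ one_mem _)) cd, fun z hz => h.cover hx hb h1 ab hz, hn,
    h.inv_sq h2, h2, ga, gb, gc, gd⟩

end Sy

namespace Fr

variable {P : Subgroup G} {a b c d g : G} (h : Fr P a b c d g)
include h

omit [Finite G] in
theorem swap : Fr P b a c d g :=
  ⟨h.sy, h.hb, h.ha, h.hc, h.hd, h.ba, h.bc, h.bd, h.ab, h.ac, h.ad, h.cb, h.ca, h.cd, h.db, h.da,
    h.dc, fun x hx => by have := h.cov x hx; tauto, h.gP, h.g4, h.inv, h.gb, h.ga, h.gc, h.gd⟩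
omit [Finite G] in
theorem swap' : Fr P a b d c g :=
  ⟨h.sy, h.ha, h.hb, h.hd, h.hc, h.ab, h.ad, h.ac, h.ba, h.bd, h.bc, h.da, h.db, h.dc, h.ca, h.cb,
    h.cd, fun x hx => by have := h.cov x hx; tauto, h.gP, h.g4, h.inv, h.ga, h.gb, h.gd, h.gc⟩
omit [Finite G] in
theorem tw : Fr P c d a b g :=
  ⟨h.sy, h.hc, h.hd, h.ha, h.hb, h.cd, h.ca, h.cb, h.dc, h.da, h.db, h.ac, h.ad, h.ab, h.bc, h.bd,
    h.ba, fun x hx => by have := h.cov x hx; tauto, h.gP, h.g4, h.inv, h.gc, h.gd, h.ga, h.gb⟩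
omit [Finite G] in
theorem a1 : a ≠ 1 := fun e => h.ba (e ▸ one_mem _)
omit [Finite G] in
theorem b1 : b ≠ 1 := fun e => h.ab (e ▸ one_mem _)
omit [Finite G] in
theorem c1 : c ≠ 1 := fun e => h.ac (e ▸ one_mem _)
omit [Finite G] in
theorem d1 : d ≠ 1 := fun e => h.ad (e ▸ one_mem _)

theorem covV {x : G} (hx : x ∈ P) (h1 : x ≠ 1) :
    V x = V a ∨ V x = V b ∨ V x = V c ∨ V x = V d :=
  (h.cov x hx).imp (fun k => h.sy.V_eq h.ha k h1) (Or.imp (fun k => h.sy.V_eq h.hb k h1)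
    (Or.imp (fun k => h.sy.V_eq h.hc k h1) fun k => h.sy.V_eq h.hd k h1))

/-- generation in frame form -/
theorem gen {K L : Subgroup G} (hK : P ≤ 𝐍[K]) (h2 : IsPGroup 2 K) (ka : V a ≤ K → V a ≤ L)
    (kb : V b ≤ K → V b ≤ L) (kc : V c ≤ K → V c ≤ L) (kd : V d ≤ K → V d ≤ L) : K ≤ L :=
  h.sy.gen hK h2 fun x hx x1 _ => by
    rcases h.covV hx x1 with e | e | e | e <;> rwa [e]

end Fr

end Cfsg.Agent.On3
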