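import Cfsg.Agent.On3.BaseA
import Cfsg.Agent.FT.PLength
import Cfsg.Agent.Block.SmTy
import Cfsg.Agent.Transfer.Focal
import Cfsg.Agent.Solv.Coprime3
import Cfsg.Agent.Solv.CoprimeSylow

/-! Local structure, II: `N(P)`, `P`-invariant `2`-groups, `N(V x)`. -/

set_option autoImplicit false
set_option linter.unusedSectionVars false
set_option linter.unusedVariables false

namespace Cfsg.Agent.On3

open Subgroup Cfsg Cfsg.Agent.PLocal Cfsg.Agent.PLocal.Amb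
open scoped commutatorElement

variable {G : Type*} [Group G] [Finite G]

namespace Sy

variable {P : Subgroup G} (h : Sy P) {x y z s : G}
include h

theorem cent_dec (hx : x ∈ P) (h1 : x ≠ 1) {c : G} (hc : Commute c x) :
    ∃ v ∈ V x, ∃ p ∈ P, c = v * p := by
  have k1 : V x ⊔ P ≤ centralizer {x} := sup_le
    (fun v hv => mem_centralizer_singleton_iff.2 ((h.mem_V hx h1).1 hv).1)
    fun p hp => mem_centralizer_singleton_iff.2 (h.comm hp hx)
  have k2 := Grp.card_sup_mul_card_inf_of_le_normalizer (h.le_nV hx h1)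
  rw [(eq_bot_iff_forall (P ⊓ V x)).2 fun p hp => h.not_mem_two (h.V_two hx h1) hp.1 hp.2,
    card_bot, mul_one, h.card, sup_comm] at k2
  rw [← mem_sup_of_le_normalizer_left (h.le_nV hx h1),
    eq_of_le_of_card_ge k1 (by rw [k2, h.h3.card_cent (h.ord hx h1)])]
  exact mem_centralizer_singleton_iff.2 hc

theorem mem_of_comm (hx : x ∈ P) (h1 : x ≠ 1) {n : G} (hn : n ∈ 𝐍[P]) (hc : Commute n x) :
    n ∈ P := by
  obtain ⟨v, hv, p, hp, rfl⟩ := h.cent_dec hx h1 hc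
  obtain ⟨y, hy, hxy⟩ := h.exists_not_mem hx
  have hvn : v ∈ 𝐍[P] := (mul_mem_cancel_right (le_normalizer hp)).1 hn
  have k : v * y * v⁻¹ * y⁻¹ = 1 := h.not_mem_two (h.V_two hx h1)
    (mul_mem (conj_mem_of_mem_normalizer hvn hy) (inv_mem hy)) (by
      have := mul_mem hv (conj_mem_of_mem_normalizer (h.le_nV hx h1 hy) (inv_mem hv))
      simpa only [mul_assoc] using this)
  rw [h.fpf hx hy h1 hxy hv (commutatorElement_eq_one_iff_commute.1 k), one_mul]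
  exact hp

theorem inv_of_sq {n : G} (hn : n ∈ 𝐍[P]) (h2 : n * n ∈ P) (hP : n ∉ P) : Inv P n := fun y hy => by
  have hy' := conj_mem_of_mem_normalizer hn hy
  by_contra k
  refine hP (h.mem_of_comm (mul_mem hy hy') (fun e => k (eq_inv_of_mul_eq_one_right e)) hn ?_)
  show _ * _ = _ * _
  calc n * (y * (n * y * n⁻¹)) = n * y * n⁻¹ * (n * n * y * (n * n)⁻¹) * n := by group
    _ = _ := by rw [(h.comm h2 hy).eq, mul_inv_cancel_right, (h.comm hy' hy).eq]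

theorem ne_inv (hx : x ∈ P) (h1 : x ≠ 1) : x⁻¹ ≠ x := fun e => h1 (by
  have := h.cube x hx
  rwa [pow_three', inv_eq_iff_mul_eq_one.1 e, one_mul] at this)

theorem inv_of_inv (hx : x ∈ P) (h1 : x ≠ 1) {n : G} (hn : n ∈ 𝐍[P]) (hc : n * x * n⁻¹ = x⁻¹) :
    Inv P n := by
  refine h.inv_of_sq hn (h.mem_of_comm hx h1 (mul_mem hn hn) ?_) fun k => ?_
  · show _ * _ = _ * _
    calc n * n * x = n * (n * x * n⁻¹) * n := by group
      _ = (n * x * n⁻¹)⁻¹ * (n * n) := by nth_rw 1 [hc]; group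
      _ = _ := by rw [hc, inv_inv]
  · rw [(h.comm k hx).eq, mul_inv_cancel_right] at hc
    exact h.ne_inv hx h1 hc.symm

theorem mem_or_inv (hx : x ∈ P) (h1 : x ≠ 1) {n : G} (hn : n ∈ 𝐍[P])
    (hc : n * x * n⁻¹ ∈ zpowers x) : n ∈ P ∨ Inv P n := by
  rcases h.eq_or hx hc with e | e | e
  · exact absurd (by simpa using e) h1
  · exact Or.inl (h.mem_of_comm hx h1 hn (mul_inv_eq_iff_eq_mul.1 e))
  · exact Or.inr (h.inv_of_inv hx h1 hn e)

theorem mem_or_inv_V (hx : x ∈ P) (h1 : x ≠ 1) (hV : V x ≠ ⊥) {n : G} (hn : n ∈ 𝐍[P])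
    (hc : n ∈ 𝐍[V x]) : n ∈ P ∨ Inv P n := by
  refine h.mem_or_inv hx h1 hn ?_
  by_contra k
  have := h.V_inf hx (conj_mem_of_mem_normalizer hn hx) h1 k
  rw [V_conj, cj_of_mem_normalizer hc, inf_idem] at this
  exact hV this

theorem inv_norm (hs : Inv P s) : s ∈ 𝐍[P] :=
  mem_normalizer_of_cj_le (cj_le_iff_forall.2 fun x hx => hs x hx ▸ inv_mem hx)

theorem inv_not_mem (hs : Inv P s) : s ∉ P := fun k => by
  obtain ⟨x, hx, h1⟩ := h.exists_ne_one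
  have := hs x hx
  rw [(h.comm k hx).eq, mul_inv_cancel_right] at this
  exact h.ne_inv hx h1 this.symm

theorem inv_nV (hs : Inv P s) (hx : x ∈ P) : s ∈ 𝐍[V x] := by
  rw [← cj_eq_iff, ← V_conj, hs x hx, V_inv]

theorem inv_mul {t : G} (hs : Inv P s) (ht : Inv P t) : t * s ∈ P := by
  obtain ⟨x, hx, h1⟩ := h.exists_ne_one
  refine h.mem_of_comm hx h1 (mul_mem (h.inv_norm ht) (h.inv_norm hs)) ?_
  show _ * _ = _ * _
  calc t * s * x = t * (s * x * s⁻¹) * t⁻¹ * (t * s) := by group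
    _ = _ := by rw [hs x hx, ht _ (inv_mem hx), inv_inv]

theorem inv_sq (hs : Inv P s) : s * s = 1 := by
  by_contra k
  have h1 := h.inv_mul hs hs
  refine h.ne_inv h1 k ?_
  rw [← hs _ h1]; group

theorem mul_inv {p : G} (hs : Inv P s) (hp : p ∈ P) : Inv P (p * s) := fun x hx => by
  calc p * s * x * (p * s)⁻¹ = p * (s * x * s⁻¹) * p⁻¹ := by group
    _ = _ := by rw [hs x hx, (h.comm hp (inv_mem hx)).eq, mul_inv_cancel_right]

/-- every element inverting `P` is a `P`-conjugate of the involution `s` -/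
theorem inv_conj {t : G} (hs : Inv P s) (s2 : s * s = 1) (ht : Inv P t) :
    ∃ p ∈ P, p * t * p⁻¹ = s := by
  have h1 := h.inv_mul hs ht
  refine ⟨t * s, h1, ?_⟩
  have e : t = t * s * s := by rw [mul_assoc, s2, mul_one]
  have e2 := hs _ (inv_mem h1)
  calc t * s * t * (t * s)⁻¹ = t * s * (t * s * s) * (t * s)⁻¹ := by rw [← e]
    _ = t * s * (t * s) * (s * (t * s)⁻¹ * s⁻¹) * s := by group
    _ = (t * s) ^ 3 * s := by rw [e2, pow_three']; group
    _ = s := by rw [h.cube _ h1, one_mul]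

theorem inv_not_cent (hs : Inv P s) (hx : x ∈ P) (h1 : x ≠ 1) (hV : V x ≠ ⊥) : s ∉ 𝐂[V x] := by
  intro k
  obtain ⟨y, hy, hn⟩ := h.exists_not_mem hx
  refine hV ((eq_bot_iff_forall _).2 fun v hv => h.fpf hx (inv_mem hy) h1 (by rwa [inv_mem_iff]) hv ?_)
  have e1 := mem_centralizer_iff.1 k _ hv
  have e2 := mem_centralizer_iff.1 k _ (conj_mem_of_mem_normalizer (h.le_nV hx h1 hy) hv)
  rw [inv_eq_sq (h.cube y hy)]
  show _ * _ = _ * _
  have e3 : y * v * y⁻¹ = y⁻¹ * v * y := by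
    calc y * v * y⁻¹ = s * (y * v * y⁻¹) * s⁻¹ := by rw [← e2]; group
      _ = (s * y * s⁻¹) * (s * v * s⁻¹) * (s * y * s⁻¹)⁻¹ := by group
      _ = _ := by rw [hs y hy, ← e1]; group
  calc v * (y * y) = y * (y⁻¹ * v * y) * y := by group
    _ = _ := by rw [← e3]; group

/-- action of `s` on `V x`: `C(s) = [V x, s] = {1, v}` -/
theorem exists_v (hs : Inv P s) (hx : x ∈ P) (h1 : x ≠ 1) (hV : V x ≠ ⊥) :
    ∃ v ∈ V x, v ≠ 1 ∧ Commute s v ∧ (∀ u ∈ V x, Commute s u → u = 1 ∨ u = v) ∧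
      ∃ u ∈ V x, u * (s * u * s⁻¹) = v := by
  obtain ⟨y, hy, hn⟩ := h.exists_not_mem hx
  have k := h.inv_not_cent hs hx h1 hV
  rw [mem_centralizer_iff] at k
  push Not at k
  obtain ⟨u, hu, hus⟩ := k
  have hu' := conj_mem_of_mem_normalizer (h.inv_nV hs hx) hu
  have hv := mul_mem hu hu'
  have v1 : u * (s * u * s⁻¹) ≠ 1 := fun e => hus (by
    rw [← h.sq hx h1 hu, mul_right_inj, mul_inv_eq_iff_eq_mul] at e
    exact e.symm)
  have cv : Commute s (u * (s * u * s⁻¹)) := by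
    show _ * _ = _ * _
    calc s * (u * (s * u * s⁻¹)) = s * u * s⁻¹ * (s * s) * u * (s * s)⁻¹ * s := by group
      _ = _ := by
        rw [h.inv_sq hs, mul_one, inv_one, mul_one, mem_centralizer_iff.1 (h.V_comm hx h1 hu) _ hu']
  refine ⟨_, hv, v1, cv, fun w hw hc => ?_, u, hu, rfl⟩
  generalize u * (s * u * s⁻¹) = v at hv v1 cv
  have key : ∀ y ∈ P, y ∉ zpowers x → ¬ Commute s (y * v * y⁻¹) := fun y hy hn hc => by
    refine hus (mem_centralizer_singleton_iff.1 (?_ : u ∈ centralizer {s}))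
    have c1 : v ∈ centralizer {s} := mem_centralizer_singleton_iff.2 cv.symm
    have c2 : y * v * y⁻¹ ∈ centralizer {s} := mem_centralizer_singleton_iff.2 hc.symm
    rcases h.V_cases hx hy h1 hn hv v1 hu with e | e | e | e <;> rw [e]
    · exact one_mem _
    · exact c1
    · exact c2
    · rw [← h.V_mul hx hy h1 hn hv]; exact mul_mem c1 c2
  rcases h.V_cases hx hy h1 hn hv v1 hw with e | e | e | e
  · exact Or.inl e
  · exact Or.inr e
  · exact absurd (e ▸ hc) (key y hy hn)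
  · exact absurd (by rw [inv_inv]; exact e ▸ hc) (key y⁻¹ (inv_mem hy) (by rwa [inv_mem_iff]))

theorem not_cyclic : ¬ IsCyclic P := fun k => by
  obtain ⟨⟨x, hx⟩, e⟩ := k.exists_generator
  obtain ⟨y, hy, hn⟩ := h.exists_not_mem hx
  obtain ⟨n, hn'⟩ := mem_zpowers_iff.1 (e ⟨y, hy⟩)
  exact hn ⟨n, congrArg Subtype.val hn'⟩

theorem isMulComm : IsMulCommutative P := ⟨⟨fun a b => Subtype.ext (h.comm a.2 b.2)⟩⟩

theorem cop {K : Subgroup G} (h3 : ¬ 3 ∣ Nat.card K) : (Nat.card P).Coprime (Nat.card K) := by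
  rw [h.card]
  exact Nat.Coprime.pow_left 2 ((Nat.Prime.coprime_iff_not_dvd Nat.prime_three).2 h3)

theorem inf_cent_le {K : Subgroup G} (h3 : ¬ 3 ∣ Nat.card K) (hx : x ∈ P) (h1 : x ≠ 1) :
    K ⊓ centralizer {x} ≤ V x := fun c hc => by
  have c1 : Commute c x := mem_centralizer_singleton_iff.1 hc.2
  refine h.h3.mem_V_of_pow (h.ord hx h1) c1 (k := 1) (orderOf_dvd_iff_pow_eq_one.1 ?_)
  have : (orderOf c).Coprime 3 := ((Nat.Prime.coprime_iff_not_dvd Nat.prime_three).2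
    fun e => h3 (e.trans (K.orderOf_dvd_natCard hc.1))).symm
  exact this.dvd_of_dvd_mul_right (orderOf_dvd_of_pow_eq_one (h.h3.pow_six (h.ord hx h1) c1))

theorem two {K : Subgroup G} (hK : P ≤ 𝐍[K]) (h3 : ¬ 3 ∣ Nat.card K) : IsPGroup 2 K := by
  have : Fact (Nat.Prime 2) := ⟨Nat.prime_two⟩
  have := h.isMulComm
  refine IsPGroup.of_card (n := (Nat.card K).primeFactorsList.length)
    (Nat.eq_prime_pow_of_unique_prime_dvd Nat.card_pos.ne' fun {q} hq hd => ?_)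
  by_contra q2
  have : Fact q.Prime := ⟨hq⟩
  obtain ⟨Q, hQ⟩ := Solv.exists_invariant_sylow P K hK (h.cop h3)
    (Or.inl (Solv.isSolvable_of_isMulCommutative P)) q
  have k := isSyl_map_subtype Q
  refine k.eq_bot_iff.1 (le_bot_iff.1 (Solv.le_of_centralizers_le P _ h.not_cyclic hQ
    (h.cop fun e => h3 (e.trans (card_dvd_of_le k.le))) ⊥ fun x hx h1 c hc => ?_)) hd
  have c2 := h.sq hx h1 (h.inf_cent_le h3 hx h1 ⟨k.le hc.1, hc.2⟩)
  exact eq_one_of_isPGroup_of_coprime k.pgrp hc.1 (Nat.Coprime.coprime_dvd_left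
    (orderOf_dvd_of_pow_eq_one (by rw [_root_.sq, c2]))
    ((Nat.coprime_primes Nat.prime_two hq).2 (Ne.symm q2)))

omit h in
theorem not_three {K : Subgroup G} (h2 : IsPGroup 2 K) : ¬ 3 ∣ Nat.card K := fun e => by
  have : Fact (Nat.Prime 2) := ⟨Nat.prime_two⟩
  obtain ⟨n, hn⟩ := IsPGroup.iff_card.1 h2
  have := Nat.prime_three.dvd_of_dvd_pow (hn ▸ e)
  omega

/-- a `P`-invariant `2`-group is generated by the `V x` it contains -/
theorem gen {K L : Subgroup G} (hK : P ≤ 𝐍[K]) (h2 : IsPGroup 2 K)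
    (hL : ∀ x ∈ P, x ≠ 1 → V x ≠ ⊥ → V x ≤ K → V x ≤ L) : K ≤ L := by
  have := h.isMulComm
  refine Solv.le_of_centralizers_le P K h.not_cyclic hK (h.cop (not_three h2)) L fun x hx h1 => ?_
  have k : K ⊓ centralizer {x} ≤ V x ⊓ K := le_inf (h.inf_cent_le (not_three h2) hx h1) inf_le_left
  rcases h.irr hx h1 hK with e | e
  · exact k.trans (e.le.trans bot_le)
  · by_cases h0 : V x = ⊥
    · exact k.trans (inf_le_left.trans (h0.le.trans bot_le))
    · exact k.trans (inf_le_left.trans (hL x hx h1 h0 e))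

theorem exists_V {K : Subgroup G} (hK : P ≤ 𝐍[K]) (h2 : IsPGroup 2 K) (h1 : K ≠ ⊥) :
    ∃ x ∈ P, x ≠ 1 ∧ V x ≠ ⊥ ∧ V x ≤ K := by
  by_contra k
  exact h1 (le_bot_iff.1 (h.gen hK h2 fun x hx x1 h0 e => absurd ⟨x, hx, x1, h0, e⟩ k))

/-- Burnside and Smith–Tyrer -/
theorem dec {Y : Subgroup G} (hY : P ≤ Y) (hn : ∀ n ∈ Y, n ∈ 𝐍[P] → n ∈ P ∨ Inv P n) :
    ∃ K : Subgroup G, IsPGroup 2 K ∧ K ≤ Y ∧ Y ≤ 𝐍[K] ∧
      ∀ c ∈ Y, ∃ k ∈ K, ∃ n ∈ 𝐍[P], c = k * n := by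
  have : Fact (Nat.Prime 3) := ⟨Nat.prime_three⟩
  obtain ⟨S, hS⟩ := (h.syl.mono hY le_top).exists_sylow
  have hN : ∀ n : Y, n ∈ 𝐍[(S : Subgroup Y)] → (n : G) ∈ 𝐍[P] := fun n k => by
    rwa [hS, ← subgroupOf_normalizer_eq hY] at k
  have hl : PLengthLE 3 1 Y := by
    by_cases k : ∃ t ∈ Y, Inv P t
    · obtain ⟨t, ht, ht'⟩ := k
      refine Block.InvHyp.pLength (P := S) ⟨?_, ?_, fun n k => ?_, ⟨t, ht⟩, ?_, ?_⟩ (by norm_num)
      · rw [hS]
        exact ⟨⟨fun a b => Subtype.ext (Subtype.ext (h.comm a.2 b.2))⟩⟩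
      · rw [hS]
        exact fun k => h.not_cyclic (isCyclic_of_surjective _ (subgroupOfEquivOfLe hY).surjective)
      · rw [hS]
        refine (hn n n.2 (hN n k)).imp (fun e x hx => Subtype.ext ?_)
          fun e x hx => Subtype.ext (e x hx)
        exact mul_inv_eq_iff_eq_mul.2 (h.comm e hx)
      · rw [hS, ← subgroupOf_normalizer_eq hY]
        exact h.inv_norm ht'
      · rw [hS]
        exact fun x hx => Subtype.ext (ht' x hx)
    · refine FT.pLengthOne_of_hasNormalPComplement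
        (Transfer.hasNormalPComplement_of_normalizer_le_centralizer S fun n e => ?_)
      have := (hn n n.2 (hN n e)).resolve_right fun e => k ⟨n, n.2, e⟩
      rw [hS]
      exact mem_centralizer_iff.2 fun x hx => Subtype.ext (h.comm hx this)
  have hK : Y ≤ 𝐍[(pPrimeCore 3 Y).map Y.subtype] := le_normalizer_map_subtype _
  refine ⟨(pPrimeCore 3 Y).map Y.subtype, h.two (hY.trans hK) ?_, map_subtype_le _, hK,
    fun c hc => ?_⟩
  · exact (Nat.Prime.coprime_iff_not_dvd Nat.prime_three).1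
      (Grp.map_pPrimeCore_coprime 3 Y.subtype).symm
  · have e := FT.pPrimeCore_sup_normalizer_of_pLengthOne hl S
    obtain ⟨k, hk, n, hn, e⟩ := (mem_sup_of_le_normalizer_left
      (le_top.trans (normalizer_eq_top (pPrimeCore 3 Y)).ge)).1 (e.ge (mem_top ⟨c, hc⟩))
    exact ⟨k, mem_map_of_mem _ hk, n, hN n hn, congrArg Subtype.val e⟩

theorem le_nR (hx : x ∈ P) (h1 : x ≠ 1) : P ≤ 𝐍[R x] := (h.le_nV hx h1).trans (norm_R x)

theorem V_le_R (hx : x ∈ P) (h1 : x ≠ 1) : V x ≤ R x :=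
  le_pCoreOf (h.V_two hx h1) le_normalizer le_rfl

theorem R_le_cent (hx : x ∈ P) (h1 : x ≠ 1) : R x ≤ 𝐂[V x] := by
  have : Fact (Nat.Prime 2) := ⟨Nat.prime_two⟩
  rw [le_centralizer_iff]
  by_cases h0 : V x = ⊥
  · exact h0.le.trans bot_le
  · exact (h.irr hx h1 (le_normalizer_centralizer (h.le_nR hx h1))).resolve_left
      (inf_centralizer_ne_bot (R_two x) (h.V_two hx h1) (R_le_norm x) h0)

theorem norm_dec (hx : x ∈ P) (h1 : x ≠ 1) (hV : V x ≠ ⊥) {n : G} (hn : n ∈ 𝐍[V x]) :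
    ∃ r ∈ R x, ∃ m : G, (m ∈ P ∨ Inv P m) ∧ n = r * m := by
  obtain ⟨K, k1, k2, k3, k4⟩ := h.dec (h.le_nV hx h1) fun n a b => h.mem_or_inv_V hx h1 hV b a
  obtain ⟨k, hk, m, hm, rfl⟩ := k4 n hn
  exact ⟨k, le_pCoreOf k1 k2 k3 hk, m,
    h.mem_or_inv_V hx h1 hV hm ((mul_mem_cancel_left (k2 hk)).1 hn), rfl⟩

theorem centV_dec (hx : x ∈ P) (h1 : x ≠ 1) (hV : V x ≠ ⊥) {c : G} (hc : c ∈ 𝐂[V x]) :
    ∃ r ∈ R x, ∃ p ∈ zpowers x, c = r * p := by
  obtain ⟨r, hr, m, hm, rfl⟩ := h.norm_dec hx h1 hV (centralizer_le_normalizer' _ hc)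
  have k := (mul_mem_cancel_left (h.R_le_cent hx h1 hr)).1 hc
  refine ⟨r, hr, m, ?_, rfl⟩
  by_contra hn
  exact hV ((eq_bot_iff_forall _).2 fun v hv => h.fpf hx
    (hm.resolve_right fun e => h.inv_not_cent e hx h1 hV k) h1 hn hv (mem_centralizer_iff.1 k v hv))

/-- a `2`-element of `K P` lies in the `2`-group `K` -/
theorem mem_of_two {K : Subgroup G} (hK : P ≤ 𝐍[K]) {k p : G} (hk : k ∈ K) (hp : p ∈ P) {n : ℕ}
    (hn : (k * p) ^ 2 ^ n = 1) : p ∈ K := by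
  have key : ∀ m : ℕ, (k * p) ^ m * (p ^ m)⁻¹ ∈ K := fun m => by
    induction m with
    | zero => simp
    | succ m ih =>
      have := mul_mem hk (conj_mem_of_mem_normalizer (hK hp) ih)
      convert this using 1
      rw [pow_succ', pow_succ]; group
  have k1 := key (2 ^ n)
  rw [hn, one_mul, inv_mem_iff] at k1
  exact mem_of_pow_mem_of_coprime k1 (Nat.Coprime.pow_right n (Nat.Coprime.coprime_dvd_left
    (orderOf_dvd_of_pow_eq_one (h.cube p hp)) (by norm_num)))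

theorem mem_R (hx : x ∈ P) (h1 : x ≠ 1) (hV : V x ≠ ⊥) {c : G} (hc : c ∈ 𝐂[V x]) {k : ℕ}
    (hk : c ^ 2 ^ k = 1) : c ∈ R x := by
  obtain ⟨r, hr, p, hp, rfl⟩ := h.centV_dec hx h1 hV hc
  exact mul_mem hr (h.mem_of_two (h.le_nR hx h1) hr (zpowers_le.2 hx hp) hk)

theorem V_le_R_of_adj (hx : x ∈ P) (hy : y ∈ P) (h1 : x ≠ 1) (y1 : y ≠ 1) (ha : Adj x y) :
    V y ≤ R x := fun v hv =>
  h.mem_R hx h1 ha.l (ha.symm.le hv) (k := 1) (by rw [pow_one, _root_.sq, h.sq hy y1 hv])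

theorem R_le (hx : x ∈ P) (h1 : x ≠ 1) (hV : V x ≠ ⊥) {L : Subgroup G}
    (hL : ∀ y ∈ P, y ≠ 1 → Adj x y → V y ≤ L) : R x ≤ L :=
  h.gen (h.le_nR hx h1) (R_two x) fun y hy y1 h0 e =>
    hL y hy y1 (Adj.symm ⟨h0, hV, e.trans (h.R_le_cent hx h1)⟩)

/-- an element inverting `P` does not lie in a `P`-invariant `2`-group -/
theorem inv_not_mem_two (hs : Inv P s) {K : Subgroup G} (hK : P ≤ 𝐍[K]) (h2 : IsPGroup 2 K) :
    s ∉ K := fun k => by
  obtain ⟨x, hx, h1⟩ := h.exists_ne_one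
  have k1 := mul_mem (conj_mem_of_mem_normalizer (hK hx) k) (inv_mem k)
  rw [show x * s * x⁻¹ * s⁻¹ = x * (s * x⁻¹ * s⁻¹) by group, hs _ (inv_mem hx), inv_inv] at k1
  exact h.ne_inv hx h1 (inv_eq_of_mul_eq_one_right (h.not_mem_two h2 (mul_mem hx hx) k1))

end Sy

namespace H3

variable (h : H3 G) {x : G}
include h

/-- an element inverting `x` acts nontrivially on `V x` -/
theorem not_cent (hx : orderOf x = 3) (h1 : V x ≠ ⊥) {n : G} (hn : n * x * n⁻¹ = x⁻¹) :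
    n ∉ 𝐂[V x] := fun k => by
  obtain ⟨P, hP, hxP⟩ := h.exists_sy hx
  have x1 : x ≠ 1 := fun e => by rw [e, orderOf_one] at hx; omega
  obtain ⟨r, hr, p, hp, rfl⟩ := hP.centV_dec hxP x1 h1 k
  have k1 := mul_mem (conj_mem_of_mem_normalizer (hP.le_nR hxP x1 hxP) hr) (inv_mem hr)
  have e : r * x * r⁻¹ = x⁻¹ := by
    rw [← hn, mul_assoc r p, (hP.comm (zpowers_le.2 hxP hp) hxP).eq]; group
  rw [show x * r * x⁻¹ * r⁻¹ = x * (r * x * r⁻¹)⁻¹ by group, e, inv_inv] at k1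
  exact hP.ne_inv hxP x1
    (inv_eq_of_mul_eq_one_right (hP.not_mem_two (R_two x) (mul_mem hxP hxP) k1))

theorem r2 {D : Subgroup G} (hD : ∀ d ∈ D, d * d = 1) (h4 : 4 ≤ Nat.card D) {r r' : G}
    (hr : r ∈ 𝐂[D]) (hr' : r' ∈ 𝐂[D]) (h1 : r * r = 1) (h2 : r' * r' = 1) :
    ¬ 3 ∣ orderOf (r * r') := fun k => by
  have ox := orderOf_pow_orderOf_div (orderOf_pos (r * r')).ne' k
  have e : r * (r * r') * r⁻¹ = (r * r')⁻¹ := by
    rw [← mul_assoc, h1, one_mul, mul_inv_rev, inv_eq_of_mul_eq_one_right h2]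
  have e2 : r * (r * r') ^ (orderOf (r * r') / 3) * r⁻¹ = ((r * r') ^ (orderOf (r * r') / 3))⁻¹ := by
    rw [← conj_pow, e, inv_pow]
  have k1 : D ≤ V ((r * r') ^ (orderOf (r * r') / 3)) := fun d hd => (h.mem_V ox).2
    ⟨mem_centralizer_iff.1 (pow_mem (mul_mem hr hr') _) d hd, hD d hd⟩
  have k2 : V ((r * r') ^ (orderOf (r * r') / 3)) ≠ ⊥ := fun e => by
    rw [le_bot_iff.1 (k1.trans e.le), card_bot] at h4; omega
  exact h.not_cent ox k2 e2 (eq_of_le_of_card_ge k1 (by rwa [h.card_V ox k2]) ▸ hr)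

end H3

end Cfsg.Agent.On3
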