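import Cfsg.Agent.On3.Base
import Cfsg.Agent.LES.OddUtil

set_option autoImplicit false
set_option linter.unusedSectionVars false

namespace Cfsg.Agent.On3

open Subgroup Cfsg Cfsg.Agent.PLocal Cfsg.Agent.PLocal.Amb

variable {G : Type*} [Group G] [Finite G] {Q : Subgroup G} {x z α γ p q p' q' r φ n : G}

/-- congruence modulo `z` -/
def Eqv (z p q : G) : Prop := p⁻¹ * q ∈ zpowers z

theorem Eqv.rfl : Eqv z p p := by simp [Eqv]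

theorem Eqv.symm (h : Eqv z p q) : Eqv z q p := by simpa [Eqv] using inv_mem h

theorem Eqv.trans (h : Eqv z p q) (h' : Eqv z q r) : Eqv z p r := by simpa [Eqv, mul_assoc] using mul_mem h h'

theorem Eqv.conj (h : Eqv z p q) (hn : n ∈ 𝐂[zpowers z]) : Eqv z (n * p * n⁻¹) (n * q * n⁻¹) := by
  rwa [Eqv, show (n * p * n⁻¹)⁻¹ * (n * q * n⁻¹) = n * (p⁻¹ * q) * n⁻¹ by group,
    ← mem_centralizer_iff.1 hn _ h, mul_inv_cancel_right]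

/-- the block of `α` -/
def Blk (x z α q : G) : Prop := ∃ i : ℕ, Eqv z q (x ^ i * α * (x ^ i)⁻¹)

theorem Blk.self : Blk x z α α := ⟨0, by simpa using Eqv.rfl⟩

theorem sq_swap (h : (p * q) ^ 2 = 1) : (q * p) ^ 2 = 1 := by
  rw [show q * p = q * (p * q) * q⁻¹ by group, conj_pow, h, mul_one, mul_inv_cancel]

theorem sq_conj (n : G) : (n * p * n⁻¹ * (n * q * n⁻¹)) ^ 2 = 1 ↔ (p * q) ^ 2 = 1 := by
  rw [conj_mul, conj_pow, conj_eq_one_iff]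

theorem conj3 (e : φ ^ 3 = 1) (p : G) : φ * (φ * (φ * p * φ⁻¹) * φ⁻¹) * φ⁻¹ = p := by
  rw [show φ * (φ * (φ * p * φ⁻¹) * φ⁻¹) * φ⁻¹ = φ ^ 3 * p * (φ ^ 3)⁻¹ by simp [pow_succ, mul_assoc], e,
    one_mul, inv_one, mul_one]

theorem conj3' (e : φ ^ 3 = 1) (p : G) : φ⁻¹ * p * φ⁻¹⁻¹ = φ * (φ * p * φ⁻¹) * φ⁻¹ := by
  nth_rw 1 [← conj3 e p]
  group

/-- the stabilizer of the class of `q` -/
def StQ (z q : G) : Subgroup G where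
  carrier := {n | n ∈ 𝐂[zpowers z] ∧ Eqv z q (n * q * n⁻¹)}
  one_mem' := ⟨one_mem _, by simpa using Eqv.rfl⟩
  mul_mem' := fun h h' => ⟨mul_mem h.1 h'.1, h.2.trans (by simpa [mul_assoc] using h'.2.conj h.1)⟩
  inv_mem' := fun h => ⟨inv_mem h.1, by simpa [mul_assoc] using (h.2.conj (inv_mem h.1)).symm⟩

/-- the data on `Q₈ ∘ Q₈` -/
structure QF (Q : Subgroup G) (x z α γ : G) : Prop where
  h3 : H3 G
  ox : orderOf x = 3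
  oz : orderOf z = 2
  xQ : x ∈ 𝐍[Q]
  Qz : Q ≤ 𝐂[zpowers z]
  Nz : 𝐍[Q] ≤ 𝐂[zpowers z]
  sqQ : ∀ q ∈ Q, q * q ∈ zpowers z
  hα : α ∈ Q
  hγ : γ ∈ Q
  a2 : α * α ≠ 1
  c2 : γ * γ ≠ 1
  aa : (α * (x * α * x⁻¹)) ^ 2 ≠ 1
  cc : (γ * (x * γ * x⁻¹)) ^ 2 ≠ 1
  ac : ∀ i : ℕ, (α * (x ^ i * γ * (x ^ i)⁻¹)) ^ 2 = 1
  cov : ∀ q ∈ Q, q * q ≠ 1 → Blk x z α q ∨ Blk x z γ q

namespace QF

variable (h : QF Q x z α γ)
include h

theorem x3 : x ^ 3 = 1 := h.ox ▸ pow_orderOf_eq_one x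

theorem ac' (i j : ℕ) : (x ^ i * α * (x ^ i)⁻¹ * (x ^ j * γ * (x ^ j)⁻¹)) ^ 2 = 1 := by
  have e : x ^ j = x ^ i * x ^ (j + 2 * i) := by
    rw [← pow_add, show i + (j + 2 * i) = j + 3 * i by ring, pow_add, pow_mul, h.x3, one_pow, mul_one]
  have := (sq_conj (x ^ i)).2 (h.ac (j + 2 * i))
  rwa [e, mul_inv_rev, ← mul_assoc _ _ (x ^ i)⁻¹, mul_assoc (x ^ i) _ γ, mul_assoc (x ^ i) _ (x ^ (j + 2 * i))⁻¹]

theorem swap : QF Q x z γ α :=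
  ⟨h.h3, h.ox, h.oz, h.xQ, h.Qz, h.Nz, h.sqQ, h.hγ, h.hα, h.c2, h.a2, h.cc, h.aa,
    fun i => sq_swap (by simpa using h.ac' i 0), fun q hq e => (h.cov q hq e).symm⟩

theorem zz : z * z = 1 := by rw [← sq, ← h.oz, pow_orderOf_eq_one]

theorem cases (e : r ∈ zpowers z) : r = 1 ∨ r = z := by
  classical
  obtain ⟨k, hk, rfl⟩ := Finset.mem_image.1 (mem_zpowers_iff_mem_range_orderOf.1 e)
  rw [h.oz, Finset.mem_range] at hk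
  interval_cases k <;> simp

theorem eq_or (e : Eqv z p q) : q = p ∨ q = p * z :=
  (h.cases e).imp (fun e => (inv_mul_eq_one.1 e).symm) fun e => inv_mul_eq_iff_eq_mul.1 e

theorem cz (hn : n ∈ 𝐂[zpowers z]) : z * n = n * z := mem_centralizer_iff.1 hn z (mem_zpowers z)

theorem sq_congr (hp : p ∈ Q) (hq : q ∈ Q) (e : Eqv z p p') (e' : Eqv z q q') :
    (p' * q') ^ 2 = (p * q) ^ 2 := by
  have key : ∀ r ∈ Q, (r * z) ^ 2 = r ^ 2 := fun r hr => by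
    rw [sq, sq, mul_assoc, ← mul_assoc z, h.cz (h.Qz hr), mul_assoc, h.zz, mul_one]
  rcases h.eq_or e with rfl | rfl <;> rcases h.eq_or e' with rfl | rfl
  · rfl
  · rw [← mul_assoc, key _ (mul_mem hp hq)]
  · rw [mul_assoc, h.cz (h.Qz hq), ← mul_assoc, key _ (mul_mem hp hq)]
  · rw [mul_assoc, ← mul_assoc z, h.cz (h.Qz hq), mul_assoc, h.zz, mul_one]

theorem memA (i : ℕ) : x ^ i * α * (x ^ i)⁻¹ ∈ Q := conj_mem_of_mem_normalizer (pow_mem h.xQ i) h.hα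

theorem nofix (hφ : φ ∈ 𝐍[Q]) (φ3 : φ ^ 3 = 1) (φ1 : φ ≠ 1) (hq : q ∈ Q) (q2 : q * q ≠ 1)
    (e : Eqv z q (φ * q * φ⁻¹)) : False := by
  have o := orderOf_eq_prime (hp := ⟨Nat.prime_three⟩) φ3 φ1
  rcases h.eq_or e with e | e
  · refine q2 ((h.h3.mem_V o).1 (h.h3.mem_V_of_pow o (mul_inv_eq_iff_eq_mul.1 e).symm (k := 2) ?_)).2
    rw [show 2 ^ 2 = 2 * 2 from rfl, pow_mul, sq q]
    rcases h.cases (h.sqQ q hq) with e | e <;> rw [e]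
    exacts [one_pow _, (sq z).trans h.zz]
  · have c := h.cz (h.Nz hφ)
    have e2 : φ * (q * z) * φ⁻¹ = q := by
      rw [← conj_mul, e, ← c, mul_inv_cancel_right, mul_assoc, h.zz, mul_one]
    have := conj3 φ3 q
    rw [e, e2, e, mul_eq_left] at this
    simpa [this] using h.oz

theorem three (e : Blk x z α q) :
    Eqv z q α ∨ Eqv z q (x * α * x⁻¹) ∨ Eqv z q (x * (x * α * x⁻¹) * x⁻¹) := by
  obtain ⟨i, e⟩ := e
  rw [← pow_mod_orderOf, h.ox] at e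
  have := Nat.mod_lt i three_pos
  generalize i % 3 = j at e this
  interval_cases j
  exacts [.inl (by simpa using e), .inr (.inl (by simpa using e)), .inr (.inr (by simpa [sq, mul_assoc] using e))]

/-- same block -/
def Rl (z p q : G) : Prop := Eqv z p q ∨ (p * q) ^ 2 ≠ 1

theorem not_rl (e : Blk x z α p) (e' : Blk x z γ q) : ¬ Rl z p q := by
  obtain ⟨i, e⟩ := e
  obtain ⟨j, e'⟩ := e'
  rintro (c | c)
  · have := ((e.symm.trans c).trans e').conj (h.Nz h.xQ)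
    refine h.aa ((sq_conj (x ^ i)).1 ?_)
    have f : ∀ (k : ℕ) (y : G), x * (x ^ k * y * (x ^ k)⁻¹) * x⁻¹ = x ^ (k + 1) * y * (x ^ (k + 1))⁻¹ :=
      fun k y => by group
    rw [f, f] at this
    rw [show x ^ i * (x * α * x⁻¹) * (x ^ i)⁻¹ = x ^ (i + 1) * α * (x ^ (i + 1))⁻¹ by group,
      ← h.sq_congr (h.memA i) (h.memA _) Eqv.rfl this, h.ac']
  · exact c ((h.sq_congr (h.memA i) (h.swap.memA j) e.symm e'.symm).trans (h.ac' i j))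

theorem rl (e : Blk x z α p) (e' : Blk x z α q) : Rl z p q := by
  have m1 := conj_mem_of_mem_normalizer h.xQ h.hα
  have m2 := conj_mem_of_mem_normalizer h.xQ m1
  have a12 := mt (sq_conj x).1 h.aa
  have a20 := mt (sq_conj x).1 a12
  rw [conj3 h.x3] at a20
  rcases h.three e with e | e | e <;> rcases h.three e' with e' | e' | e' <;>
    first
    | exact .inl (e.trans e'.symm)
    | refine .inr ((h.sq_congr ?_ ?_ e.symm e'.symm).trans_ne ?_)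
  exacts [h.hα, m1, h.aa, h.hα, m2, mt sq_swap a20, m1, h.hα, mt sq_swap h.aa, m1, m2, a12, m2, h.hα, a20,
    m2, m1, mt sq_swap a12]

theorem rl_conj (hφ : φ ∈ 𝐍[Q]) (e : Rl z (φ * p * φ⁻¹) (φ * q * φ⁻¹)) : Rl z p q :=
  e.imp (fun e => by simpa [mul_assoc] using e.conj (inv_mem (h.Nz hφ))) (mt (sq_conj φ).2)

theorem blk (hφ : φ ∈ 𝐍[Q]) (φ3 : φ ^ 3 = 1) (hp : p ∈ Q) (p2 : p * p ≠ 1) (e : Blk x z α p) :
    Blk x z α (φ * p * φ⁻¹) := by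
  have c : ∀ p, p * p ≠ 1 → φ * p * φ⁻¹ * (φ * p * φ⁻¹) ≠ 1 := fun p p2 => by
    rwa [conj_mul, Ne, conj_eq_one_iff]
  have m := conj_mem_of_mem_normalizer hφ hp
  refine (h.cov _ m (c p p2)).resolve_right fun e1 => h.not_rl e e1 ?_
  rcases h.cov _ (conj_mem_of_mem_normalizer hφ m) (c _ (c p p2)) with e2 | e2
  · have := h.rl e2 e
    refine h.rl_conj hφ (h.rl_conj hφ ?_)
    rwa [conj3 φ3]
  · exact h.rl_conj hφ (h.swap.rl e1 e2)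

theorem nofix2 (hφ : φ ∈ 𝐍[Q]) (φ3 : φ ^ 3 = 1) (φ1 : φ ≠ 1) (hq : q ∈ Q) (q2 : q * q ≠ 1)
    (e : Eqv z (φ⁻¹ * q * φ⁻¹⁻¹) (φ * q * φ⁻¹)) : False := by
  refine h.nofix (inv_mem hφ) (by rw [inv_pow, φ3, inv_one]) (inv_ne_one.2 φ1) hq q2 ?_
  have := e.conj (h.Nz hφ)
  rw [show φ * (φ⁻¹ * q * φ⁻¹⁻¹) * φ⁻¹ = q by group] at this
  rwa [conj3' φ3]

theorem rot (hφ : φ ∈ 𝐍[Q]) (φ3 : φ ^ 3 = 1) (φ1 : φ ≠ 1) :
    Eqv z (φ * α * φ⁻¹) (x * α * x⁻¹) ∨ Eqv z (φ⁻¹ * α * φ⁻¹⁻¹) (x * α * x⁻¹) := by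
  have i3 : φ⁻¹ ^ 3 = 1 := by rw [inv_pow, φ3, inv_one]
  rcases h.three (h.blk hφ φ3 h.hα h.a2 .self) with e | e | e
  · exact (h.nofix hφ φ3 φ1 h.hα h.a2 e.symm).elim
  · exact .inl e
  rcases h.three (h.blk (inv_mem hφ) i3 h.hα h.a2 .self) with e' | e' | e'
  · exact (h.nofix (inv_mem hφ) i3 (inv_ne_one.2 φ1) h.hα h.a2 e'.symm).elim
  · exact .inr e'
  · exact (h.nofix2 hφ φ3 φ1 h.hα h.a2 (e'.trans e.symm)).elim

theorem rot2 (hφ : φ ∈ 𝐍[Q]) (φ3 : φ ^ 3 = 1) (φ1 : φ ≠ 1) (e : Eqv z (φ * α * φ⁻¹) (x * α * x⁻¹)) :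
    Eqv z (φ * (x * α * x⁻¹) * φ⁻¹) (x * (x * α * x⁻¹) * x⁻¹) := by
  have m := conj_mem_of_mem_normalizer h.xQ h.hα
  have m2 : x * α * x⁻¹ * (x * α * x⁻¹) ≠ 1 := by rw [conj_mul, Ne, conj_eq_one_iff]; exact h.a2
  rcases h.three (h.blk hφ φ3 m m2 ⟨1, by simpa using Eqv.rfl⟩) with e' | e' | e'
  · refine (h.nofix2 hφ φ3 φ1 h.hα h.a2 (.trans ?_ e.symm)).elim
    simpa [mul_assoc] using (e'.conj (inv_mem (h.Nz hφ))).symm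
  · exact (h.nofix hφ φ3 φ1 m m2 e'.symm).elim
  · exact e'

theorem not_mix (hφ : φ ∈ 𝐍[Q]) (φ3 : φ ^ 3 = 1) (φ1 : φ ≠ 1) (e : Eqv z (φ * α * φ⁻¹) (x * α * x⁻¹))
    (e' : Eqv z (φ⁻¹ * γ * φ⁻¹⁻¹) (x * γ * x⁻¹)) : False := by
  have i3 : φ⁻¹ ^ 3 = 1 := by rw [inv_pow, φ3, inv_one]
  have e2 := h.swap.rot2 (inv_mem hφ) i3 (inv_ne_one.2 φ1) e'
  have hk : x⁻¹ * φ ∈ 𝐍[Q] := mul_mem (inv_mem h.xQ) hφ
  have xz := h.Nz h.xQ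
  have c := h.Nz hφ
  have f1 : Eqv z (φ * (x * γ * x⁻¹) * φ⁻¹) γ := by simpa [mul_assoc] using (e'.conj c).symm
  have f2 : Eqv z (φ * (x * (x * γ * x⁻¹) * x⁻¹) * φ⁻¹) (x * γ * x⁻¹) := by
    simpa [mul_assoc] using (e2.conj c).symm
  have f0 : Eqv z (φ * γ * φ⁻¹) (x * (x * γ * x⁻¹) * x⁻¹) := by
    have := (e'.conj (inv_mem c)).trans e2
    rwa [← conj3' i3, inv_inv] at this
  have ka : Eqv z α (x⁻¹ * φ * α * (x⁻¹ * φ)⁻¹) := by simpa [mul_assoc] using (e.conj (inv_mem xz)).symm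
  have k0 : Eqv z (x⁻¹ * φ * γ * (x⁻¹ * φ)⁻¹) (x * γ * x⁻¹) := by simpa [mul_assoc] using f0.conj (inv_mem xz)
  have k1 : Eqv z (x⁻¹ * φ * (x * γ * x⁻¹) * (x⁻¹ * φ)⁻¹) (x * (x * γ * x⁻¹) * x⁻¹) := by
    have := f1.conj (inv_mem xz)
    rw [conj3' h.x3 γ] at this
    simpa [mul_assoc] using this
  have k2 : Eqv z (x⁻¹ * φ * (x * (x * γ * x⁻¹) * x⁻¹) * (x⁻¹ * φ)⁻¹) γ := by
    simpa [mul_assoc] using f2.conj (inv_mem xz)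
  generalize x⁻¹ * φ = k at hk ka k0 k1 k2
  have kz := h.Nz hk
  have n0 : k ∉ StQ z γ := fun e =>
    h.nofix h.xQ h.x3 (fun e => by simpa [e] using h.ox) h.hγ h.c2 (e.2.trans k0)
  have n3 : k ^ 3 ∈ StQ z γ := ⟨pow_mem kz 3, by
    simpa [pow_succ, mul_assoc] using ((((k0.conj kz).trans k1).conj kz).trans k2).symm⟩
  have d : 3 ∣ orderOf k := by_contra fun d => n0 (zpowers_le.2 n3
    (mem_zpowers_pow_iff.2 ((Nat.Prime.coprime_iff_not_dvd Nat.prime_three).2 d)))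
  refine h.nofix (pow_mem hk 2) ?_ (fun e => n0 ?_) h.hα h.a2 ((StQ z α).pow_mem ⟨kz, ka⟩ 2).2
  · rw [← pow_mul]
    exact orderOf_dvd_iff_pow_eq_one.1 (h.h3.orderOf_dvd d)
  · rwa [pow_succ, e, one_mul] at n3

theorem mem_norm {B : Subgroup G} (zB : z ∈ B) (BQ : B ≤ Q)
    (gen : Q ≤ closure {α, x * α * x⁻¹, γ, x * γ * x⁻¹, z}) (hφ : φ ∈ 𝐍[Q]) (φ3 : φ ^ 3 = 1) (φ1 : φ ≠ 1)
    (e : Eqv z (φ * α * φ⁻¹) (x * α * x⁻¹)) : x⁻¹ * φ ∈ 𝐍[B] := by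
  have e' := (h.swap.rot hφ φ3 φ1).resolve_right (h.not_mix hφ φ3 φ1 e)
  have xz := h.Nz h.xQ
  have f : ∀ {p : G}, Eqv z (φ * p * φ⁻¹) (x * p * x⁻¹) → Eqv z p (x⁻¹ * φ * p * (x⁻¹ * φ)⁻¹) :=
    fun e => by simpa [mul_assoc] using (e.conj (inv_mem xz)).symm
  have kz := h.Nz (mul_mem (inv_mem h.xQ) hφ)
  have key : ∀ q ∈ closure {α, x * α * x⁻¹, γ, x * γ * x⁻¹, z},
      q ∈ Q ∧ Eqv z q (x⁻¹ * φ * q * (x⁻¹ * φ)⁻¹) := fun q hq => by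
    induction hq using closure_induction with
    | mem q hq =>
      rcases hq with rfl | rfl | rfl | rfl | rfl
      exacts [⟨h.hα, f e⟩, ⟨conj_mem_of_mem_normalizer h.xQ h.hα, f (h.rot2 hφ φ3 φ1 e)⟩, ⟨h.hγ, f e'⟩,
        ⟨conj_mem_of_mem_normalizer h.xQ h.hγ, f (h.swap.rot2 hφ φ3 φ1 e')⟩,
        ⟨BQ zB, by rw [← h.cz kz, mul_inv_cancel_right]; exact .rfl⟩]
    | one => exact ⟨one_mem _, by simpa using Eqv.rfl⟩
    | mul p q _ _ hp hq =>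
      refine ⟨mul_mem hp.1 hq.1, ?_⟩
      have := mul_mem hp.2 hq.2
      rw [← mul_assoc, mem_centralizer_iff.1 (h.Qz (inv_mem hq.1)) _ hp.2] at this
      simpa [Eqv, mul_assoc] using this
    | inv p _ hp =>
      refine ⟨inv_mem hp.1, ?_⟩
      simpa [Eqv, mul_assoc] using inv_mem (hp.2.conj (h.Qz hp.1))
  refine mem_normalizer_of_cj_le (cj_le_iff_forall.2 fun b hb => ?_)
  simpa using mul_mem hb (zpowers_le.2 zB (key b (gen (BQ hb))).2)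

end QF

/-- `Q = Q₈ ∘ Q₈`, `x` of order 3 acts on both factors. -/
theorem nq_le {G : Type*} [Group G] [Finite G] (h3 : H3 G) {M B Q : Subgroup G} {x z α γ : G}
    (ox : orderOf x = 3) (oz : orderOf z = 2) (zB : z ∈ B) (BQ : B ≤ Q) (nB : 𝐍[B] ≤ M)
    (nx : 𝐍[zpowers x] ≤ M) (card0 : Nat.card ↥(M ⊓ 𝐂[zpowers z]) = 384) (xQ : x ∈ 𝐍[Q])
    (Qz : Q ≤ 𝐂[zpowers z]) (cenQ : Q ⊓ 𝐂[Q] ≤ zpowers z) (sqQ : ∀ q ∈ Q, q * q ∈ zpowers z)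
    (hα : α ∈ Q) (hγ : γ ∈ Q) (gen : Q ≤ closure {α, x * α * x⁻¹, γ, x * γ * x⁻¹, z})
    (a2 : α * α ≠ 1) (c2 : γ * γ ≠ 1) (aa : (α * (x * α * x⁻¹)) ^ 2 ≠ 1)
    (cc : (γ * (x * γ * x⁻¹)) ^ 2 ≠ 1) (ac : ∀ i : ℕ, (α * (x ^ i * γ * (x ^ i)⁻¹)) ^ 2 = 1)
    (cov : ∀ q ∈ Q, q * q ≠ 1 → ∃ i : ℕ, q⁻¹ * (x ^ i * α * (x ^ i)⁻¹) ∈ zpowers z ∨
      q⁻¹ * (x ^ i * γ * (x ^ i)⁻¹) ∈ zpowers z) : 𝐍[Q] ≤ M := fun n hn => by
  classical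
  have Nz : 𝐍[Q] ≤ 𝐂[zpowers z] := fun n hn => by
    have m : z ∈ Q ⊓ 𝐂[Q] := ⟨BQ zB, le_centralizer_iff.1 Qz (mem_zpowers z)⟩
    obtain ⟨k, hk, e⟩ := Finset.mem_image.1 (mem_zpowers_iff_mem_range_orderOf.1 (cenQ
      (conj_mem_of_mem_normalizer (le_normalizer_inf le_rfl (normalizer_le_normalizer_centralizer Q) hn) m)))
    rw [oz, Finset.mem_range] at hk
    rw [centralizer_zpowers, mem_centralizer_singleton_iff]
    interval_cases k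
    · simp [conj_eq_one_iff.1 ((pow_zero z).symm.trans e).symm]
    · exact mul_inv_eq_iff_eq_mul.1 ((pow_one z).symm.trans e).symm
  have h : QF Q x z α γ := ⟨h3, ox, oz, xQ, Qz, Nz, sqQ, hα, hγ, a2, c2, aa, cc, ac,
    fun q hq e => exists_or.1 (cov q hq e)⟩
  have xM := nx (le_normalizer (mem_zpowers x))
  have hf := mul_mem (mul_mem hn xQ) (inv_mem hn)
  have f3 : (n * x * n⁻¹) ^ 3 = 1 := by rw [conj_pow, h.x3, mul_one, mul_inv_cancel]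
  have f1 : n * x * n⁻¹ ≠ 1 := fun e => by simp [conj_eq_one_iff.1 e] at ox
  have fM : n * x * n⁻¹ ∈ M := (h.rot hf f3 f1).elim
    (fun e => (M.mul_mem_cancel_left (inv_mem xM)).1 (nB (h.mem_norm zB BQ gen hf f3 f1 e)))
    fun e => inv_mem_iff.1 ((M.mul_mem_cancel_left (inv_mem xM)).1 (nB (h.mem_norm zB BQ gen (inv_mem hf)
      (by rw [inv_pow, f3, inv_one]) (inv_ne_one.2 f1) e)))
  have := Fact.mk Nat.prime_three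
  obtain ⟨c, hc, e⟩ := LES.exists_conj_mem_zpowers (M := M ⊓ 𝐂[zpowers z]) ⟨xM, Nz xQ⟩ ox
    (by rw [card0]; norm_num) ⟨fM, Nz hf⟩ f3
  refine (M.mul_mem_cancel_left hc.1).1 (nx (mem_normalizer_of_cj_le (cj_le_iff.2 (zpowers_le.2 ?_))))
  simpa [mul_assoc] using conj_mem_cj (c * n)⁻¹ e

end Cfsg.Agent.On3
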